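import Cfsg.Agent.Lib.Helper11.AschO.Defs

set_option autoImplicit false

namespace Cfsg.Agent.Lib.Helper11.AschO

open Cfsg Cfsg.Geo QuadraticMap
open Cfsg.Agent.Lib.Helper77.Asch (NormBy MinOver)
open scoped MatrixGroups Matrix

variable {ι : Type} [Fintype ι] [DecidableEq ι] {F : Type*} [Field F]

/-- FIXF. -/
theorem mem_of_pow_card [Fintype F] (F₀ : Subfield F) (a : F) (h : a ^ Nat.card F₀ = a) : a ∈ F₀ := by
  classical
  have hfin : Fintype F₀ := Fintype.ofFinite _
  obtain ⟨q, hq⟩ : ∃ q, q = Nat.card F₀ := ⟨_, rfl⟩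
  have hq1 : 1 < q := by rw [hq]; exact Finite.one_lt_card
  rw [← hq] at h
  -- the polynomial `X ^ q - X`
  have hne : (Polynomial.X ^ q - Polynomial.X : Polynomial F) ≠ 0 := FiniteField.X_pow_card_sub_X_ne_zero F hq1
  have hdeg : (Polynomial.X ^ q - Polynomial.X : Polynomial F).natDegree = q :=
    FiniteField.X_pow_card_sub_X_natDegree_eq F hq1
  have hroot : ∀ b : F, b ∈ (Polynomial.X ^ q - Polynomial.X : Polynomial F).roots.toFinset ↔ b ^ q = b := by
    intro b
    rw [Multiset.mem_toFinset, Polynomial.mem_roots hne, Polynomial.IsRoot.def]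
    simp [sub_eq_zero]
  have hsub : (Finset.univ.image (fun x : F₀ => (x : F)))
      ⊆ (Polynomial.X ^ q - Polynomial.X : Polynomial F).roots.toFinset := by
    intro b hb
    obtain ⟨x, -, rfl⟩ := Finset.mem_image.mp hb
    rw [hroot]
    have h1 : x ^ q = x := by
      rw [hq, Nat.card_eq_fintype_card]; exact FiniteField.pow_card x
    exact_mod_cast congrArg Subtype.val h1
  have hcard1 : (Finset.univ.image (fun x : F₀ => (x : F))).card = q := by
    rw [Finset.card_image_of_injective _ Subtype.val_injective, Finset.card_univ, hq,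
      Nat.card_eq_fintype_card]
  have hcard2 : (Polynomial.X ^ q - Polynomial.X : Polynomial F).roots.toFinset.card ≤ q := by
    calc _ ≤ Multiset.card (Polynomial.X ^ q - Polynomial.X : Polynomial F).roots :=
          Multiset.toFinset_card_le _
      _ ≤ (Polynomial.X ^ q - Polynomial.X : Polynomial F).natDegree := Polynomial.card_roots' _
      _ = q := hdeg
  have heq := Finset.eq_of_subset_of_card_le hsub (by rw [hcard1]; exact hcard2)
  have ha : a ∈ (Polynomial.X ^ q - Polynomial.X : Polynomial F).roots.toFinset := (hroot a).mpr h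
  rw [← heq] at ha
  obtain ⟨x, -, rfl⟩ := Finset.mem_image.mp ha
  exact x.2

end Cfsg.Agent.Lib.Helper11.AschO
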